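set_option autoImplicit false
namespace Cfsg.Agent.Lib.Helper6.TCD.ONU2
noncomputable def WDL0 (i : Nat) : Nat := Nat.land (Nat.shiftRight 0x313104121212121212121210212121212121212110000000000000040404000000000000404004000000000000030304000000000000303004000000000000020204000000000000202004000000000000010104000000000000101004000000000000004402000000000000003302000000000000002202000000000000001102000000000000000002 (Nat.mul 72 (Nat.land i 15))) 4722366482869645213695
noncomputable def WDL1 (i : Nat) : Nat := Nat.land (Nat.shiftRight 0x12124012120a00000021240121210a00000012401212120a00000024012121210a00000040121212120a00000001212121240a00000012121212400a000000000034343406000000000043434306000000000000242404000000000000424204000000000023232306000000000032323206000000000000141404000000000000414104000000000000131304 (Nat.mul 72 (Nat.land i 15))) 4722366482869645213695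
noncomputable def WDP0N0 (i : Nat) : Nat := Bool.rec (WDL0 i) (WDL1 i) (Nat.ble 16 i)
noncomputable def WDL2 (i : Nat) : Nat := Nat.land (Nat.shiftRight 0x42121212100a00000021212121040a00000012121210420a00000021212104210a00000012121042120a00000021210421210a00000012104212120a00000021042121210a00000010421212120a00000004212121210a00000021212124010a00000012121240120a00000021212401210a (Nat.mul 72 (Nat.land i 15))) 4722366482869645213695
noncomputable def WD (i : Nat) : Nat := Bool.rec (WDP0N0 i) (WDL2 i) (Nat.ble 32 i)
end Cfsg.Agent.Lib.Helper6.TCD.ONU2
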