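import Cfsg.Agent.Lib.Helper6.TCD.ONU2.SH
import Cfsg.Agent.Lib.Helper6.TCD.ONU2.SC
import Cfsg.Agent.Lib.Helper6.TCD.ONU2.NH
import Cfsg.Agent.Lib.Helper6.TCD.ONU2.NC
import Cfsg.Agent.Lib.Helper6.TCD.ONU2.WD
import Cfsg.Agent.Lib.Helper6.TCD.ONU2.WI
set_option autoImplicit false
namespace Cfsg.Agent.Lib.Helper6.TCD.ONU2
def n : Nat := 672
def ncol : Nat := 5
def nrw : Nat := 45
def nw : Nat := 45
def tmax : Nat := 3360
def INV : Nat := 274960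
def N : Nat := 672
end Cfsg.Agent.Lib.Helper6.TCD.ONU2
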